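import Mathlib.FieldTheory.Galois.Basic
import Mathlib.RingTheory.Trace.Basic
import Mathlib.LinearAlgebra.Matrix.NonsingularInverse
import Mathlib.RingTheory.TensorProduct.Free
import Mathlib.RingTheory.SimpleRing.Basic
import Mathlib.RingTheory.Flat.Basic

/-! Galois descent for semilinear actions. -/

set_option autoImplicit false

universe u v w

open scoped TensorProduct

namespace Groth.Agent.GalDesc

section Vec

variable (k : Type u) [Field k] (K : Type v) [Field K] [Algebra k K] [FiniteDimensional k K] [IsGalois k K]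
variable {V : Type w} [AddCommGroup V] [Module K V]
variable (T : (K ≃ₐ[k] K) → V → V)

open scoped Classical in
/-- The inverse character matrix kills every automorphism but the identity. -/
theorem exists_delta : ∃ (ι : Type v) (_ : Fintype ι) (a b : ι → K),
    ∀ σ : K ≃ₐ[k] K, ∑ j, a j * σ (b j) = if σ = 1 then 1 else 0 := by
  classical
  have hcard : Fintype.card (K ≃ₐ[k] K) = Fintype.card (Fin (Module.finrank k K)) := by
    rw [Fintype.card_fin, ← Nat.card_eq_fintype_card, IsGalois.card_aut_eq_finrank]
  let b := (Module.finBasis k K).reindex (Fintype.equivOfCardEq hcard).symm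
  let M : Matrix (K ≃ₐ[k] K) (K ≃ₐ[k] K) K := Matrix.of fun σ τ => σ (b τ)
  have hli : LinearIndependent K M.row := by
    rw [Fintype.linearIndependent_iff]
    intro g hg σ
    have h := Fintype.linearIndependent_iff.1 ((linearIndependent_monoidHom K K).comp
      (fun τ : K ≃ₐ[k] K => (τ : K →* K)) fun τ τ' e => AlgEquiv.ext fun x => DFunLike.congr_fun e x) g ?_ σ
    · exact h
    funext x
    rw [Finset.sum_apply, ← b.sum_repr x]
    simp only [Pi.smul_apply, Function.comp_apply, smul_eq_mul, Pi.zero_apply]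
    have hx : ∀ τ : K ≃ₐ[k] K, (τ : K →* K) (∑ i, b.repr x i • b i) = ∑ i, b.repr x i • τ (b i) := fun τ => by
      show τ (∑ i, b.repr x i • b i) = _
      simp only [map_sum, map_smul]
    simp only [hx, Finset.mul_sum, mul_smul_comm]
    rw [Finset.sum_comm]
    refine Finset.sum_eq_zero fun i _ => ?_
    rw [← Finset.smul_sum]
    have := congrFun hg i
    simp only [Finset.sum_apply, Pi.smul_apply, smul_eq_mul, Matrix.row_apply, M, Matrix.of_apply,
      Pi.zero_apply] at this
    rw [this, smul_zero]
  obtain ⟨a, ha⟩ := (Matrix.mulVec_surjective_iff_isUnit.2 (Matrix.linearIndependent_rows_iff_isUnit.1 hli))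
    (fun σ => if σ = 1 then 1 else 0)
  refine ⟨K ≃ₐ[k] K, inferInstance, a, b, fun σ => ?_⟩
  rw [← congrFun ha σ, Matrix.mulVec, dotProduct]
  exact Finset.sum_congr rfl fun j _ => mul_comm _ _

variable (hT0 : ∀ σ, T σ 0 = 0) (hTa : ∀ σ v w, T σ (v + w) = T σ v + T σ w)
  (hT1 : ∀ v, T 1 v = v) (hTm : ∀ σ τ v, T σ (T τ v) = T (σ * τ) v)
  (hTs : ∀ σ (c : K) v, T σ (c • v) = σ c • T σ v)

include hT0 hTa hT1 hTm hTs

/-- The invariant vectors span. -/
theorem span_fixed : Submodule.span K {v | ∀ σ, T σ v = v} = ⊤ := by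
  classical
  let f : ∀ _ : K ≃ₐ[k] K, V →+ V := fun σ =>
    { toFun := T σ, map_zero' := hT0 σ, map_add' := hTa σ }
  refine eq_top_iff.2 fun v _ => ?_
  obtain ⟨ι, _, a, b, hab⟩ := exists_delta k K
  have hw : ∀ c : K, (∑ σ, σ c • T σ v) ∈ {v | ∀ σ, T σ v = v} := fun c τ => by
    show f τ (∑ σ, σ c • T σ v) = _
    rw [map_sum, ← Equiv.sum_comp (Equiv.mulLeft τ) fun σ => σ c • T σ v]
    refine Finset.sum_congr rfl fun σ _ => ?_
    show T τ (σ c • T σ v) = (τ * σ) c • T (τ * σ) v
    rw [hTs, hTm]
    rfl
  have hv : v = ∑ j, a j • ∑ σ, σ (b j) • T σ v := by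
    simp only [Finset.smul_sum, smul_smul]
    rw [Finset.sum_comm]
    simp only [← Finset.sum_smul, hab]
    simp [hT1]
  rw [hv]
  exact Submodule.sum_mem _ fun j _ => Submodule.smul_mem _ _ (Submodule.subset_span (hw (b j)))

/-- Invariant vectors independent over `k` are independent over `K`. -/
theorem linearIndependent_fixed [Module k V] [IsScalarTower k K V] {ι : Type*} (v : ι → V)
    (hv : ∀ i σ, T σ (v i) = v i) (hli : LinearIndependent k v) : LinearIndependent K v := by
  classical
  let f : ∀ _ : K ≃ₐ[k] K, V →+ V := fun σ =>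
    { toFun := T σ, map_zero' := hT0 σ, map_add' := hTa σ }
  rw [linearIndependent_iff'] at hli ⊢
  intro s a hsum i hi
  by_contra ha
  obtain ⟨z, hz⟩ := Algebra.trace_surjective k K 1
  let c := z / a i
  have htr : ∀ x : K, algebraMap k K (Algebra.trace k K x) = ∑ σ : K ≃ₐ[k] K, σ x := fun x =>
    trace_eq_sum_automorphisms x
  have h0 : ∑ j ∈ s, Algebra.trace k K (c * a j) • v j = 0 := by
    have h1 : ∀ j ∈ s, Algebra.trace k K (c * a j) • v j = ∑ σ, T σ ((c * a j) • v j) := fun j _ => by
      rw [← algebraMap_smul K (Algebra.trace k K (c * a j)) (v j), htr, Finset.sum_smul]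
      exact Finset.sum_congr rfl fun σ _ => by rw [hTs, hv]
    rw [Finset.sum_congr rfl h1, Finset.sum_comm]
    refine Finset.sum_eq_zero fun σ _ => ?_
    show ∑ j ∈ s, f σ ((c * a j) • v j) = 0
    rw [← map_sum]
    simp only [← smul_smul, ← Finset.smul_sum, hsum, smul_zero, map_zero]
  have h2 := hli s _ h0 i hi
  rw [div_mul_cancel₀ z ha, hz] at h2
  exact one_ne_zero h2

end Vec

section Alg

variable {k : Type u} [Field k] {K : Type v} [Field K] [Algebra k K] [FiniteDimensional k K] [IsGalois k K]
variable {B : Type w} [Ring B] [Algebra K B] [Algebra k B] [IsScalarTower k K B]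
variable (T : (K ≃ₐ[k] K) → B →+* B) (hT1 : ∀ v, T 1 v = v) (hTm : ∀ σ τ v, T σ (T τ v) = T (σ * τ) v)
  (hTs : ∀ σ (c : K) v, T σ (c • v) = σ c • T σ v)

/-- The invariant subalgebra. -/
def fixedAlg : Subalgebra k B where
  carrier := {v | ∀ σ, T σ v = v}
  mul_mem' {a b} ha hb σ := by rw [map_mul, ha σ, hb σ]
  one_mem' σ := map_one _
  add_mem' {a b} ha hb σ := by rw [map_add, ha σ, hb σ]
  zero_mem' σ := map_zero _
  algebraMap_mem' r σ := by
    rw [IsScalarTower.algebraMap_apply k K B, Algebra.algebraMap_eq_smul_one, hTs, map_one, σ.commutes]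

theorem mem_fixedAlg {v : B} : v ∈ fixedAlg T hTs ↔ ∀ σ, T σ v = v := Iff.rfl

/-- The comparison map. -/
noncomputable def comparison : K ⊗[k] fixedAlg T hTs →ₐ[K] B :=
  Algebra.TensorProduct.lift (Algebra.ofId K B) (fixedAlg T hTs).val fun x y => Algebra.commutes x _

theorem comparison_tmul (c : K) (a : fixedAlg T hTs) : comparison T hTs (c ⊗ₜ[k] a) = c • (a : B) := by
  rw [comparison, Algebra.TensorProduct.lift_tmul, Algebra.smul_def]
  rfl

include hT1 hTm in
theorem comparison_bijective : Function.Bijective (comparison T hTs) := by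
  constructor
  · let b := Module.Free.chooseBasis k (fixedAlg T hTs)
    have hli : LinearIndependent K fun i => (b i : B) :=
      linearIndependent_fixed k K (fun σ => T σ) (fun σ => map_zero _) (fun σ => map_add _) hT1 hTm hTs _
        (fun i σ => (b i).2 σ) (b.linearIndependent.map' (fixedAlg T hTs).val.toLinearMap
          (LinearMap.ker_eq_bot.2 Subtype.val_injective))
    have hb : ∀ i, comparison T hTs (Algebra.TensorProduct.basis K b i) = (b i : B) := fun i => by
      rw [Algebra.TensorProduct.basis_apply, comparison_tmul, one_smul]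
    have hf : ∀ x, comparison T hTs x =
        Finsupp.linearCombination K (fun i => (b i : B)) ((Algebra.TensorProduct.basis K b).repr x) := fun x => by
      conv_lhs => rw [← (Algebra.TensorProduct.basis K b).linearCombination_repr x,
        Finsupp.linearCombination_apply, Finsupp.sum, map_sum]
      rw [Finsupp.linearCombination_apply, Finsupp.sum]
      exact Finset.sum_congr rfl fun i _ => by rw [map_smul, hb]
    intro x y hxy
    rw [hf, hf] at hxy
    exact (Algebra.TensorProduct.basis K b).repr.injective (hli hxy)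
  · intro v
    have hv : v ∈ Submodule.span K {v | ∀ σ, T σ v = v} := by
      rw [span_fixed k K (fun σ => T σ) (fun σ => map_zero _) (fun σ => map_add _) hT1 hTm hTs]
      trivial
    refine (?_ : Submodule.span K {v | ∀ σ, T σ v = v} ≤ LinearMap.range (comparison T hTs).toLinearMap) hv
    refine Submodule.span_le.2 ?_
    exact fun w hw => ⟨1 ⊗ₜ[k] ⟨w, hw⟩, (comparison_tmul T hTs 1 ⟨w, hw⟩).trans (one_smul K w)⟩

/-- Descent of an algebra. -/
noncomputable def descent : K ⊗[k] fixedAlg T hTs ≃ₐ[K] B :=
  AlgEquiv.ofBijective (comparison T hTs) (comparison_bijective T hT1 hTm hTs)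

theorem descent_tmul (c : K) (a : fixedAlg T hTs) : descent T hT1 hTm hTs (c ⊗ₜ[k] a) = c • (a : B) :=
  comparison_tmul T hTs c a

end Alg

section Fixed

variable {k : Type u} [Field k] {K : Type v} [Field K] [Algebra k K] [FiniteDimensional k K] [IsGalois k K]
variable {A : Type w} [Ring A] [Algebra k A]

/-- Invariants of a base change. -/
theorem exists_of_fixed (t : K ⊗[k] A)
    (h : ∀ σ : K ≃ₐ[k] K, Algebra.TensorProduct.map (σ : K →ₐ[k] K) (AlgHom.id k A) t = t) :
    ∃ a : A, (1 : K) ⊗ₜ[k] a = t := by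
  classical
  let b := Module.Free.chooseBasis k A
  let B := Algebra.TensorProduct.basis K b
  have hB : ∀ i, B i = (1 : K) ⊗ₜ[k] b i := fun i => Algebra.TensorProduct.basis_apply b i
  have hrep : ∀ (σ : K ≃ₐ[k] K) (i), σ (B.repr t i) = B.repr t i := by
    intro σ i
    have key : Algebra.TensorProduct.map (σ : K →ₐ[k] K) (AlgHom.id k A) t =
        ∑ j ∈ (B.repr t).support, σ (B.repr t j) • B j := by
      conv_lhs => rw [← B.linearCombination_repr t, Finsupp.linearCombination_apply, Finsupp.sum, map_sum]
      refine Finset.sum_congr rfl fun j _ => ?_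
      rw [hB, TensorProduct.smul_tmul', Algebra.TensorProduct.map_tmul, TensorProduct.smul_tmul']
      simp [smul_eq_mul]
    rw [h σ] at key
    have := congrArg (fun x => B.repr x i) key
    simp only [map_sum, map_smul, B.repr_self, Finsupp.coe_finset_sum, Finset.sum_apply, Finsupp.smul_apply,
      Finsupp.single_apply, smul_eq_mul, mul_ite, mul_one, mul_zero, Finset.sum_ite_eq'] at this
    split_ifs at this with hi
    · exact this.symm
    · rw [Finsupp.notMem_support_iff.1 hi, map_zero]
  choose r hr using fun i => (IsGalois.mem_range_algebraMap_iff_fixed (B.repr t i)).2 fun σ => hrep σ i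
  refine ⟨∑ j ∈ (B.repr t).support, r j • b j, ?_⟩
  conv_rhs => rw [← B.linearCombination_repr t, Finsupp.linearCombination_apply, Finsupp.sum]
  rw [TensorProduct.tmul_sum]
  refine Finset.sum_congr rfl fun j _ => ?_
  rw [TensorProduct.tmul_smul, hB, ← hr j, algebraMap_smul]

omit [FiniteDimensional k K] [IsGalois k K] in
theorem includeRight_inj {a a' : A} (h : (1 : K) ⊗ₜ[k] a = (1 : K) ⊗ₜ[k] a') : a = a' :=
  Algebra.TensorProduct.includeRight_injective (algebraMap k K).injective h

end Fixed

end Groth.Agent.GalDesc
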